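import Cfsg.Agent.H122.Ore.ETwo
import Cfsg.Agent.H85.Ore.EEight

/-!
# Two fixed classes for `E₇(q)`, `E₈(q)`, all `q` (helper122, S4173)

`Tw G` : there are `a`, `b` such that every nonidentity element of `G` is a product of a conjugate of `a` and a conjugate of `b`
(the unfolded form of `H140.TC.TC`).

* `tw_of_levi` : from the frame `H928.Ore.Frame.pair`;
* `tw_of_real` : one block of type `A`, a real class of the block whose square is everything but the identity (`q = 2`);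
* `tw_of_oneClass` : one block, one class `c` with `C C⁻¹` everything (`q ≥ 3`, helper85);
* `tw_E7`, `tw_E8`.
-/

set_option autoImplicit false
set_option linter.unusedSectionVars false

namespace Cfsg.Agent.H122.TwoC

open CoxeterSystem Cfsg.Agent.ChevalleyStructure.CoxeterGeom Cfsg.Agent.Tits.Roots Cfsg.Agent.Tits.Core
  Cfsg.Agent.Nodes.Reps Cfsg.Agent.Nodes.BNOf Cfsg.Agent.Nodes.RGDLib Cfsg.Agent.Nodes.Bruhat
  Cfsg.Agent.Nodes.OppDec Cfsg.Agent.Nodes.LeviDec Cfsg.Agent.Nodes.KindChev Cfsg.Agent.Nodes.ChevCls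
  Cfsg.Agent.OddHalf.NI.ModelChev Cfsg.Agent.Nodes.StabComb
  Cfsg.Agent.H162.GaussDec Cfsg.Agent.H162.GaussLevi Cfsg.Agent.H162.GaussSL Cfsg.Agent.H162.GaussMain
  Cfsg.Agent.H162.GaussExc
  Cfsg.Agent.H928.Ore.Frame Cfsg.Agent.H928.Ore.Fix Cfsg.Agent.H85.Ore Cfsg.Agent.H122.Ore.Blk
open Cfsg.Lie Cfsg.Agent.ChevalleyStructure Cfsg.Agent.ChevalleyStructure.Elts
  Cfsg.Agent.ChevalleyStructure.RootVec Cfsg.Agent.ChevalleyStructure.NPerm
  Cfsg.Agent.ChevalleyStructure.CoxeterGeomTypes Cfsg.Agent.Nodes.RGDChev Cfsg.Agent.KFacts.RgdChevCoord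

universe u

/-- two fixed classes -/
def Tw (G : Type*) [Group G] : Prop :=
  ∃ a b : G, ∀ g : G, g ≠ 1 → ∃ u v : G, g = (u * a * u⁻¹) * (v * b * v⁻¹)

section

variable {D : ChevalleyDatum} {l : ℕ} {M : CoxeterMatrix (Fin l)} (hp : IsType D l M) {K : Type u} [Field K]

/-- the frame -/
theorem tw_of_levi [Finite K] (hl : 0 < l) (hG : IsSimpleGroup ↥(D.group K) ∧ ¬ IsMulCommutative ↥(D.group K))
    (hM : ∀ J : Finset (Fin l), J = ∅ ∨ J = Finset.univ ∨ ∃ a ∈ J, ∃ b, b ∉ J ∧ M a b ≠ 2) {J : Set (Fin l)}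
    {a b : ↥(D.group K)}
    (hb : ∀ v ∈ UNJ M.toCoxeterSystem hp.isCartan (XX D l K) J, ∀ u ∈ UJ M.toCoxeterSystem hp.isCartan (XX D l K) J,
      ∃ c₁ c₂, v * u = c₁ * c₂ ∧ LP M.toCoxeterSystem hp.isCartan (TT D K) (XX D l K) J c₁ c₂ ∧
        (∃ x, c₁ = x * a * x⁻¹) ∧ ∃ y, c₂ = y * b * y⁻¹) : Tw ↥(D.group K) := by
  refine ⟨a, b, fun g hg => ?_⟩
  obtain ⟨p, hpc⟩ := CharP.exists K
  have : Fact p.Prime := ⟨(CharP.char_is_prime_or_zero K p).resolve_right (CharP.char_ne_zero_of_finite K p)⟩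
  have := finite_W hp M.toCoxeterSystem
  have : Nonempty (Fin l) := ⟨⟨0, hl⟩⟩
  obtain ⟨c₁, c₂, x, y, ⟨⟨z, hz⟩, w, hw⟩, e⟩ := pair (rgd (K := K) hp M.toCoxeterSystem p) (G1_eq_top hp _)
    (coord hp) (Cfsg.Agent.Nodes.ChevChart.irr_of hM) (J := J)
    (Pr := fun c₁ c₂ : ↥(D.group K) => (∃ x, c₁ = x * a * x⁻¹) ∧ ∃ y, c₂ = y * b * y⁻¹) hb
    (fun h => hg (one_of_core hp hl hG.1 h))
  refine ⟨x * z, y * w, ?_⟩
  rw [e, hz, hw]
  group

/-- **One real class in a block.** -/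
theorem tw_of_real [Finite K] (hl : 0 < l) (hG : IsSimpleGroup ↥(D.group K) ∧ ¬ IsMulCommutative ↥(D.group K))
    (hM : ∀ J : Finset (Fin l), J = ∅ ∨ J = Finset.univ ∨ ∃ a ∈ J, ∃ b, b ∉ J ∧ M a b ≠ 2) {J : Set (Fin l)} {n : ℕ}
    {φ : Matrix.SpecialLinearGroup (Fin (n + 2)) K →* ↥(D.group K)}
    (hr : ∀ A, φ A ∈ LJ M.toCoxeterSystem hp.isCartan (TT D K) (XX D l K) J)
    (hU : UJ M.toCoxeterSystem hp.isCartan (XX D l K) J ≤ (UT (n + 2) K).map φ)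
    (hUN : UNJ M.toCoxeterSystem hp.isCartan (XX D l K) J ≤ (LT (n + 2) K).map φ)
    {c : Matrix.SpecialLinearGroup (Fin (n + 2)) K}
    (hA : ∀ A : Matrix.SpecialLinearGroup (Fin (n + 2)) K, A ≠ 1 → ∃ g h, A = (g * c * g⁻¹) * (h * c * h⁻¹))
    (hinv : ∃ t : ↥(D.group K), t * t = 1 ∧ t * φ c * t⁻¹ = (φ c)⁻¹)
    (hNF : NF (VJ M.toCoxeterSystem hp.isCartan (XX D l K) J) (φ c))
    (hNF' : NF (VNJ M.toCoxeterSystem hp.isCartan (XX D l K) J) (φ c)) :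
    Tw ↥(D.group K) := by
  obtain ⟨p, hpc⟩ := CharP.exists K
  have : Fact p.Prime := ⟨(CharP.char_is_prime_or_zero K p).resolve_right (CharP.char_ne_zero_of_finite K p)⟩
  have hW := finite_W hp M.toCoxeterSystem
  have : Nonempty (Fin l) := ⟨⟨0, hl⟩⟩
  have R := rgd (K := K) hp M.toCoxeterSystem p
  obtain ⟨t, ht, hti⟩ := hinv
  have hnf : ∀ g, NF (VJ M.toCoxeterSystem hp.isCartan (XX D l K) J) (φ (g * c * g⁻¹)) ∧
      NF (VNJ M.toCoxeterSystem hp.isCartan (XX D l K) J) (φ (g * c * g⁻¹)) := by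
    intro g
    rw [map_mul, map_mul, map_inv]
    exact ⟨NF.conj (LJ_le_normalizer_VJ R J (hr g)) hNF, NF.conj (LJ_le_normalizer_VNJ R J (hr g)) hNF'⟩
  refine tw_of_levi hp hl hG hM (J := J) (a := φ c) (b := φ c) fun v hv u hu => ?_
  obtain ⟨L, -, rfl⟩ := hUN hv
  obtain ⟨U, -, rfl⟩ := hU hu
  by_cases h1 : L * U = 1
  · refine ⟨φ c, (φ c)⁻¹, by rw [← map_mul, h1, map_one, mul_inv_cancel], ⟨hr _, inv_mem (hr _), hNF', NF.inv hNF⟩,
      ⟨1, by group⟩, t, hti.symm⟩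
  · obtain ⟨g, h, e⟩ := hA _ h1
    exact ⟨φ (g * c * g⁻¹), φ (h * c * h⁻¹), by rw [← map_mul, e, map_mul], ⟨hr _, hr _, (hnf g).2, (hnf h).1⟩,
      ⟨φ g, by rw [map_mul, map_mul, map_inv]⟩, φ h, by rw [map_mul, map_mul, map_inv]⟩

/-- **One class `c` with `C C⁻¹` everything.** -/
theorem tw_of_oneClass [Finite K] (hl : 0 < l) (hG : IsSimpleGroup ↥(D.group K) ∧ ¬ IsMulCommutative ↥(D.group K))
    (hM : ∀ J : Finset (Fin l), J = ∅ ∨ J = Finset.univ ∨ ∃ a ∈ J, ∃ b, b ∉ J ∧ M a b ≠ 2)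
    {J : List (Fin l)} {e : Fin l → ℤ} {ω : List (Fin l)} {n : ℕ} {r : Fin (n + 2) → Fin (n + 2) → ℕ}
    (TB : TabB D l J e ω n r)
    {φ : Matrix.SpecialLinearGroup (Fin (n + 2)) K →* ↥(D.group K)} {s : Fin (n + 2) → Fin (n + 2) → K}
    (hs : ∀ a b, s a b ≠ 0)
    (hφ : ∀ a b (hab : a ≠ b) c, φ (Matrix.SpecialLinearGroup.transvection hab c) = xc hp (vec D l (r a b)) (s a b * c))
    {c₀ : Matrix.SpecialLinearGroup (Fin (n + 2)) K} (hc : OneClass hp K J φ c₀) : Tw ↥(D.group K) := by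
  refine tw_of_levi hp hl hG hM (J := {k | k ∈ J}) (a := φ c₀) (b := (φ c₀)⁻¹) fun v hv u hu => ?_
  obtain ⟨x, y, h1, h2⟩ := levi_pairs hp TB hs hφ hc hv hu
  exact ⟨_, _, h1, h2, ⟨φ x, by rw [map_mul, map_mul, map_inv]⟩, φ y, by rw [map_mul, map_mul, map_inv, map_inv]⟩

end

/-! ### `E₈` -/

theorem tw_E8_two {K : Type u} [Field K] (hK : Nat.card K = 2) : Tw ↥(chevE8.group K) := by
  have : Finite K := Nat.finite_of_card_ne_zero (by rw [hK]; norm_num)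
  have hc2 : CharP K 2 := by
    have : Fintype K := Fintype.ofFinite K
    exact charP_of_card_eq_prime (by rw [Fintype.card_eq_nat_card, hK])
  obtain ⟨φ, hφ⟩ := exists_phi8 K
  obtain ⟨c, hc, -, hA⟩ := H934.MF.cert8 hK
  obtain ⟨L, _, _, i, z, hz, -, hd⟩ := H934.MF.eig8 hK
  obtain ⟨g, hg⟩ := hd _ hc
  obtain ⟨φ', hφ'⟩ := exists_phi8 L
  have : CharP L 2 := charP_of_injective_ringHom i.injective 2
  have : Fact (Nat.Prime 2) := ⟨Nat.prime_two⟩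
  have hs : ∀ _ _ : Fin 8, (((-1 : ℤ) : K)) ≠ 0 := fun _ _ => by simp
  have B : H482.Ore.Fix.Bk Cfsg.Agent.Nodes.KindE.isType8 i {k | k ∈ J8} 6 r8 j8 φ φ' (fun _ _ => ((-1 : ℤ) : K)) :=
    { simp := ⟨r8_simple, r8_simple'⟩
      rlt := tab8.rlt
      rJ := tab8.rJ
      hφ := hφ
      hφ' := fun a b hab c => by rw [hφ' a b hab c, map_intCast]
      ss := fun a => by norm_num }
  have hz0 : z ≠ 0 := by
    rintro rfl
    have h1 : orderOf (0 : L) = 0 := by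
      rw [orderOf_eq_zero_iff']
      intro m hm
      rw [zero_pow hm.ne']
      exact zero_ne_one
    rw [h1] at hz
    norm_num at hz
  obtain ⟨n1, n2⟩ := H482.Ore.Fix.nf_block' Cfsg.Agent.Nodes.KindE.isType8 2 B hg (fun q hq hk => by
    have h1 := ne_one_two (n := 6) (by rw [hz]; norm_num) chkW8 hq hk
    rw [prod_wt (lam := fun b : Fin 8 => z ^ (2 ^ (b : ℕ))) (fun a => pow_ne_zero _ hz0)] at h1
    exact h1)
  exact tw_of_real Cfsg.Agent.Nodes.KindE.isType8 (by norm_num) (Cfsg.Agent.S1054.result chevE8 (by simp))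
    Cfsg.Agent.Nodes.ChevChart.irr8 (phi_mem Cfsg.Agent.Nodes.KindE.isType8 tab8 hφ)
    (UJ_le Cfsg.Agent.Nodes.KindE.isType8 tab8 (s := fun _ _ => ((-1 : ℤ) : K)) hs hφ)
    (UNJ_le Cfsg.Agent.Nodes.KindE.isType8 tab8 (s := fun _ _ => ((-1 : ℤ) : K)) hs hφ) hA
    (inv_of_irr Cfsg.Agent.Nodes.KindE.isType8 (rep_neg_of Cfsg.Agent.Nodes.KindE.isType8 frE8) (ε := -1) (by norm_num)
      (fun a b hab => tab8.rlt a b hab) (fun a b hab => rt8.2.2.2 a b hab) hφ (by rw [hc]; exact H934.MF.irr8 hK)) n1 n2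

theorem tw_E8_ge {K : Type u} [Field K] [Finite K] (hq : 3 ≤ Nat.card K) : Tw ↥(chevE8.group K) := by
  obtain ⟨φ, hφ⟩ := exists_phi8 K
  obtain ⟨c₀, ν, p, -, -, -, -, hc⟩ := exists_class8 K hq hφ
  exact tw_of_oneClass Cfsg.Agent.Nodes.KindE.isType8 (by norm_num) (Cfsg.Agent.S1054.result chevE8 (by simp))
    Cfsg.Agent.Nodes.ChevChart.irr8 tab8 (s := fun _ _ => ((-1 : ℤ) : K)) (fun _ _ => by simp) hφ hc

/-- **`E₈(q)`, all `q`.** -/
theorem tw_E8 {K : Type u} [Field K] [Finite K] : Tw ↥(chevE8.group K) := by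
  by_cases h : Nat.card K = 2
  · exact tw_E8_two h
  · have h1 : 1 < Nat.card K := Finite.one_lt_card
    exact tw_E8_ge (by omega)

/-! ### `E₇` -/

theorem r7_simple' : ∀ a : Fin 6, r7 a.succ a.castSucc = chevE7.neg (chevE7.simple (j7 a)) := by decide +kernel

theorem tw_E7_two {K : Type u} [Field K] (hK : Nat.card K = 2) : Tw ↥(chevE7.group K) := by
  have : Finite K := Nat.finite_of_card_ne_zero (by rw [hK]; norm_num)
  have hc2 : CharP K 2 := by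
    have : Fintype K := Fintype.ofFinite K
    exact charP_of_card_eq_prime (by rw [Fintype.card_eq_nat_card, hK])
  obtain ⟨φ, hφ⟩ := exists_phi7 K
  obtain ⟨c, hc, -, hA⟩ := H934.MF.cert7 hK
  obtain ⟨L, _, _, i, z, hz, -, hd⟩ := H934.MF.eig7 hK
  obtain ⟨g, hg⟩ := hd _ hc
  obtain ⟨φ', hφ'⟩ := exists_phi7 L
  have : CharP L 2 := charP_of_injective_ringHom i.injective 2
  have : Fact (Nat.Prime 2) := ⟨Nat.prime_two⟩
  have hs : ∀ _ _ : Fin 7, (((-1 : ℤ) : K)) ≠ 0 := fun _ _ => by simp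
  have B : H482.Ore.Fix.Bk Cfsg.Agent.Nodes.KindE.isType7 i {k | k ∈ J7} 5 r7 j7 φ φ' (fun _ _ => ((-1 : ℤ) : K)) :=
    { simp := ⟨r7_simple, r7_simple'⟩
      rlt := tab7.rlt
      rJ := tab7.rJ
      hφ := hφ
      hφ' := fun a b hab c => by rw [hφ' a b hab c, map_intCast]
      ss := fun a => by norm_num }
  have hz0 : z ≠ 0 := by
    rintro rfl
    have h1 : orderOf (0 : L) = 0 := by
      rw [orderOf_eq_zero_iff']
      intro m hm
      rw [zero_pow hm.ne']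
      exact zero_ne_one
    rw [h1] at hz
    norm_num at hz
  obtain ⟨n1, n2⟩ := H482.Ore.Fix.nf_block' Cfsg.Agent.Nodes.KindE.isType7 2 B hg (fun q hq hk => by
    have h1 := ne_one_two (n := 5) (by rw [hz]; norm_num) chkW7 hq hk
    rw [prod_wt (lam := fun b : Fin 7 => z ^ (2 ^ (b : ℕ))) (fun a => pow_ne_zero _ hz0)] at h1
    exact h1)
  exact tw_of_real Cfsg.Agent.Nodes.KindE.isType7 (by norm_num) (Cfsg.Agent.S1054.result chevE7 (by simp))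
    Cfsg.Agent.Nodes.ChevChart.irr7 (phi_mem Cfsg.Agent.Nodes.KindE.isType7 tab7 hφ)
    (UJ_le Cfsg.Agent.Nodes.KindE.isType7 tab7 (s := fun _ _ => ((-1 : ℤ) : K)) hs hφ)
    (UNJ_le Cfsg.Agent.Nodes.KindE.isType7 tab7 (s := fun _ _ => ((-1 : ℤ) : K)) hs hφ) hA
    (inv_of_irr Cfsg.Agent.Nodes.KindE.isType7 (rep_neg_of Cfsg.Agent.Nodes.KindE.isType7 frE7) (ε := -1) (by norm_num)
      (fun a b hab => tab7.rlt a b hab) (fun a b hab => rt7.2.2.2 a b hab) hφ (by rw [hc]; exact H934.MF.irr7 hK)) n1 n2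

theorem tw_E7_ge {K : Type u} [Field K] [Finite K] (hq : 3 ≤ Nat.card K) : Tw ↥(chevE7.group K) := by
  obtain ⟨φ, hφ⟩ := exists_phi7 K
  obtain ⟨c₀, ν, p, -, -, -, -, hc⟩ := exists_class7 K hq hφ
  exact tw_of_oneClass Cfsg.Agent.Nodes.KindE.isType7 (by norm_num) (Cfsg.Agent.S1054.result chevE7 (by simp))
    Cfsg.Agent.Nodes.ChevChart.irr7 tab7 (s := fun _ _ => ((-1 : ℤ) : K)) (fun _ _ => by simp) hφ hc

/-- **`E₇(q)`, all `q`.** -/
theorem tw_E7 {K : Type u} [Field K] [Finite K] : Tw ↥(chevE7.group K) := by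
  by_cases h : Nat.card K = 2
  · exact tw_E7_two h
  · have h1 : 1 < Nat.card K := Finite.one_lt_card
    exact tw_E7_ge (by omega)

end Cfsg.Agent.H122.TwoC
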